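import Groth.Agent.EtAcyc.K202.EsCore
import Groth.Agent.Hensel.Lazard
import Groth.Agent.Hensel.EtaleNbhd

/-!
# Assembly of S17214 from faithfulness, full faithfulness and essential surjectivity from the closed fibre
-/

set_option autoImplicit false
universe u

open CategoryTheory CategoryTheory.Limits AlgebraicGeometry IsLocalRing

namespace EtAcyc.K202.EsMain

open Groth.Agent.Etrest.StrictLoc Groth.Agent.Sga1.UlaSL K868.Bc K260.Es K439.ClFin EtAcyc.K202.Fes
  Groth.Agent.Etrest.VCBaseChange Groth.Agent.Pi1.H383.PrincBC K548.SpreadPrin K157.ClDef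

/-- Strict localizations of locally Noetherian schemes are Noetherian. -/
theorem isNoetherianRing_of_isStrictLoc {S : Scheme.{u}} [IsLocallyNoetherian S] {A : Type u} [CommRing A]
    [IsLocalRing A] {t : Spec (CommRingCat.of A) ⟶ S} (ht : IsStrictLoc t) : IsNoetherianRing A := by
  obtain ⟨_, _, _, -⟩ := exists_specOf ht _ rfl
  have := Groth.Agent.Hensel.Lazard.faithfullyFlat_of_isStrictHenselization
    (S.presheaf.stalk (t (closedPoint A))) A
  exact (Groth.Agent.Hensel.EtaleNbhd.isNoetherianRing_iff (R := S.presheaf.stalk (t (closedPoint A)))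
    (Groth.Agent.Hensel.Exist.isHull_of_isStrictHenselization
      (S.presheaf.stalk (t (closedPoint A))) A).exists_etale_finset).1 inferInstance

/-- Two principal covers of `T` which agree on the closed fibre agree. -/
theorem comes_of_comes_closedFibre {XR XR' XRs XRs' : Scheme.{u}} {k : XR' ⟶ XR} {i : XRs ⟶ XR} {i' : XRs' ⟶ XR'}
    {p : XRs' ⟶ XRs} (hp : p ≫ i = i' ≫ k) {G : Type} [Group G] [Finite G]
    (hcb : ∀ (H : Type) [Group H] [Finite H], Nat.card H ∣ Nat.card (G × G) →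
      ∀ (T : FEt.Cat XR') (θ : H →* Aut T), SGA1t.IsPrincipal H T θ → CBij (pullback.fst T.hom i'))
    (hFE : ∀ (P' : FEt.Cat XRs') (ρ' : G →* Aut P'), SGA1t.IsPrincipal G P' ρ' → Comes p G P' ρ')
    (hES : ∀ (P' : FEt.Cat XRs) (ρ' : G →* Aut P'), SGA1t.IsPrincipal G P' ρ' → Comes i G P' ρ')
    (P' : FEt.Cat XR') (ρ' : G →* Aut P') (hP' : SGA1t.IsPrincipal G P' ρ') : Comes k G P' ρ' := by
  obtain ⟨Ps, ρs, hPs, es, hes⟩ := hFE ((FEt.restrict i').obj P') (bcAction i' ρ') (isPrincipal_bc i' G P' ρ' hP')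
  obtain ⟨P, ρ, hP, e, he⟩ := hES Ps ρs hPs
  have d1 : Nat.card G ∣ Nat.card (G × G) := by
    rw [Nat.card_prod]
    exact Dvd.intro _ rfl
  have hPk := isPrincipal_bc k G P ρ hP
  let η₁ := natIso i' k (i' ≫ k) rfl
  let η₂ := natIso p i (i' ≫ k) hp
  have hiso : ∃ e' : (FEt.restrict i').obj ((FEt.restrict k).obj P) ≅ (FEt.restrict i').obj P',
      ∀ x : G, (FEt.restrict i').map (bcAction k ρ x).hom ≫ e'.hom = e'.hom ≫ (FEt.restrict i').map (ρ' x).hom := by
    refine ⟨η₁.app P ≪≫ (η₂.app P).symm ≪≫ (FEt.restrict p).mapIso e ≪≫ es, fun x => ?_⟩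
    have n1 := η₁.hom.naturality (ρ x).hom
    have n2 := η₂.inv.naturality (ρ x).hom
    rw [Functor.comp_map] at n1 n2
    have n3 : (FEt.restrict p).map ((FEt.restrict i).map (ρ x).hom) ≫ (FEt.restrict p).map e.hom =
        (FEt.restrict p).map e.hom ≫ (FEt.restrict p).map (ρs x).hom := by
      rw [← Functor.map_comp, he, Functor.map_comp]
    have n4 := hes x
    rw [bcAction_hom] at n4
    rw [bcAction_hom]
    simp only [Iso.trans_hom, Iso.symm_hom, Iso.app_inv, Iso.app_hom, Functor.mapIso_hom, Category.assoc]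
    rw [← Category.assoc ((FEt.restrict i').map ((FEt.restrict k).map (ρ x).hom)), n1, Category.assoc,
      ← Category.assoc ((FEt.restrict (i' ≫ k)).map (ρ x).hom), n2, Category.assoc,
      ← Category.assoc ((FEt.restrict p).map ((FEt.restrict i).map (ρ x).hom)), n3, Category.assoc, n4]
  obtain ⟨e₁, he₁⟩ := exists_iso_of_cBij i' (ρ := bcAction k ρ) (τ := ρ') (hcb G d1 _ _ hPk).1 (hcb G d1 _ _ hP').1
    (hcb (G × G) dvd_rfl _ _ (isPrincipal_prod hPk hP')).2 (hcb (G × G) dvd_rfl _ _ (isPrincipal_prod hP' hPk)).2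
    hiso
  exact ⟨P, ρ, hP, e₁, he₁⟩

variable {X Y S : Scheme.{u}} (f : X ⟶ Y) (b : Y ⟶ S) (U : S.Opens)

/-- The main assembly, for a strict localization `σR` of `Y` and a strict localization `σR'` of `Y'` over it. -/
theorem main' (H : H17216.{u}) [IsLocallyNoetherian S] [QuasiCompact f] [QuasiSeparated f]
    (hF : Faith (f ∣_ (b ⁻¹ᵁ U)) (b ∣_ U)) (hFF : ∀ n : ℕ, 0 < n → FF n (f ∣_ (b ⁻¹ᵁ U)) (b ∣_ U))
    (hES : ∀ n : ℕ, 0 < n → EScN n (f ∣_ (b ⁻¹ᵁ U)) (b ∣_ U))
    (G : Type) [Group G] [Finite G] (hG : ∀ s ∈ U, IsUnit ((Nat.card G : ℕ) : S.residueField s))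
    {S' Y' : Scheme.{u}} (h : S' ⟶ S) (hU : Set.range h.base ⊆ (U : Set S)) (g : Y' ⟶ Y) (b' : Y' ⟶ S')
    (hpb : IsPullback g b' b h) {R R' : Type u} [CommRing R] [IsLocalRing R] [CommRing R'] [IsLocalRing R']
    (σR : Spec (CommRingCat.of R) ⟶ Y) (hσR : IsStrictLoc σR) (σR' : Spec (CommRingCat.of R') ⟶ Y')
    (hσR' : IsStrictLoc σR') (φ : R →+* R') [IsLocalHom φ] (hφ : spm φ ≫ σR = σR' ≫ g)
    (P' : FEt.Cat (pullback (pullback.snd f σR) (spm φ))) (ρ' : G →* Aut P') (hP' : SGA1t.IsPrincipal G P' ρ') :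
    Comes (pullback.fst (pullback.snd f σR) (spm φ)) G P' ρ' := by
  have iR := hσR.henselian
  have iR2 := hσR.sepClosed
  have iR' := hσR'.henselian
  have iR2' := hσR'.sepClosed
  -- the two bases
  obtain ⟨A, _, _, t₀, ht₀, htc⟩ := exists_isStrictLoc S ((σR ≫ b) (closedPoint R))
  obtain ⟨β, hβl, hβ⟩ := exists_map ht₀ (σR ≫ b) htc.symm
  obtain ⟨A', _, _, t₁, ht₁, htc₁⟩ := exists_isStrictLoc S' ((σR' ≫ b') (closedPoint R'))
  obtain ⟨β', hβl', hβ'⟩ := exists_map ht₁ (σR' ≫ b') htc₁.symm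
  have iA := ht₀.henselian
  have iA2 := ht₀.sepClosed
  have iAN : IsNoetherianRing A := isNoetherianRing_of_isStrictLoc ht₀
  have iA' := ht₁.henselian
  have iA2' := ht₁.sepClosed
  obtain ⟨α, hαl, hα, hc⟩ := exists_map_over ht₀ (t₁ ≫ h) β' (φ.comp β) (by
    rw [spm_comp, Category.assoc, hβ, ← Category.assoc, hφ, Category.assoc, hpb.w, ← Category.assoc, ← hβ',
      Category.assoc])
  -- the strict localizations of the base changes
  have w₁ := weaklyEtale_of_isStrictLoc ht₀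
  have w₂ := weaklyEtale_of_isStrictLoc ht₁
  let σ : Spec (CommRingCat.of R) ⟶ pullback b t₀ := pullback.lift σR (spm β) hβ.symm
  have hσ1 : σ ≫ pullback.fst b t₀ = σR := pullback.lift_fst _ _ _
  have hσ2 : σ ≫ pullback.snd b t₀ = spm β := pullback.lift_snd _ _ _
  have hσ : IsStrictLoc σ := IsStrictLoc.of_comp (pullback.fst b t₀) (by rw [hσ1]; exact hσR)
  let σ' : Spec (CommRingCat.of R') ⟶ pullback b (t₁ ≫ h) := pullback.lift (σR' ≫ g) (spm β') (by
    rw [Category.assoc, hpb.w, ← Category.assoc, ← hβ', Category.assoc])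
  have hσ1' : σ' ≫ pullback.fst b (t₁ ≫ h) = σR' ≫ g := pullback.lift_fst _ _ _
  have hσ2' : σ' ≫ pullback.snd b (t₁ ≫ h) = spm β' := pullback.lift_snd _ _ _
  let v : pullback b (t₁ ≫ h) ⟶ Y' := hpb.lift (pullback.fst b (t₁ ≫ h)) (pullback.snd b (t₁ ≫ h) ≫ t₁) (by
    rw [pullback.condition, Category.assoc])
  have hv1 : v ≫ g = pullback.fst b (t₁ ≫ h) := hpb.lift_fst _ _ _
  have hv2 : v ≫ b' = pullback.snd b (t₁ ≫ h) ≫ t₁ := hpb.lift_snd _ _ _
  have sqv : IsPullback v (pullback.snd b (t₁ ≫ h)) b' t₁ := by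
    refine IsPullback.of_right (h₁₂ := g) (v₁₃ := b) (h₂₂ := h) ?_ hv2 hpb
    rw [hv1]
    exact IsPullback.of_hasPullback _ _
  have wv : WeaklyEtale v := MorphismProperty.of_isPullback (P := @WeaklyEtale) sqv.flip w₂
  have hσ' : IsStrictLoc σ' := IsStrictLoc.of_comp v (by
    have : σ' ≫ v = σR' := by
      apply hpb.hom_ext
      · rw [Category.assoc, hv1, hσ1']
      · rw [Category.assoc, hv2, ← Category.assoc, hσ2', hβ']
    rw [this]; exact hσR')
  -- the points
  have hcl1 : (pullback.snd b t₀) (σ (closedPoint R)) = closedPoint A := by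
    rw [← Scheme.Hom.comp_apply, hσ2]
    exact closedPoint_map β
  have hcl2 : (pullback.snd b (t₁ ≫ h)) (σ' (closedPoint R')) = closedPoint A' := by
    rw [← Scheme.Hom.comp_apply, hσ2']
    exact closedPoint_map β'
  have hU1 : (t₁ ≫ h) (closedPoint A') ∈ U := by
    rw [Scheme.Hom.comp_apply]
    exact hU ⟨_, rfl⟩
  have hU0 : t₀ (closedPoint A) ∈ U := by
    rw [← closedPoint_map α, ← Scheme.Hom.comp_apply, hα]
    exact hU1
  have hnG : IsUnit ((Nat.card G : ℕ) : A) := isUnit_natCast t₀ _ (hG _ hU0)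
  have hn1 : IsUnit ((Nat.card (G × G) : ℕ) : A') := by
    rw [Nat.card_prod, Nat.cast_mul]
    exact (isUnit_natCast (t₁ ≫ h) _ (hG _ hU1)).mul (isUnit_natCast (t₁ ≫ h) _ (hG _ hU1))
  -- the schemes `X_R`, `X_R'`
  have sqX : IsPullback (pullback.fst f σR) (pullback.snd f σR) f (σ ≫ pullback.fst b t₀) := by
    rw [hσ1]
    exact IsPullback.of_hasPullback _ _
  let kb := pullback.fst (pullback.snd f σR) (spm φ)
  have sqk : IsPullback kb (pullback.snd (pullback.snd f σR) (spm φ)) (pullback.snd f σR) (spm φ) :=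
    IsPullback.of_hasPullback _ _
  have sqX' : IsPullback (kb ≫ pullback.fst f σR) (pullback.snd (pullback.snd f σR) (spm φ)) f
      (σ' ≫ pullback.fst b (t₁ ≫ h)) := by
    rw [hσ1', ← hφ]
    exact sqk.paste_horiz (IsPullback.of_hasPullback f σR)
  obtain ⟨p, hp, hpC⟩ := exists_comes (IsPullback.of_hasPullback b t₀) (IsPullback.of_hasPullback b (t₁ ≫ h)) hσ hσ'
    β hσ2 β' hσ2' α hα φ (by rw [hσ1, hσ1']; exact hφ) hc.symm H hnG sqX sqk
  have hES' : ∀ (P' : FEt.Cat (pullback (pullback.snd f σR ≫ spm β) (resPt A))) (ρ' : G →* Aut P'),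
      SGA1t.IsPrincipal G P' ρ' → Comes (pullback.fst (pullback.snd f σR ≫ spm β) (resPt A)) G P' ρ' := by
    intro P' ρ' hP'
    refine escN_restrict f b U (hES _ Nat.card_pos) iA iA2 iAN hnG t₀ hU0 (IsPullback.of_hasPullback b t₀) hσ hcl1
      sqX (q := pullback.snd (pullback.snd f σR ≫ spm β) (resPt A)) ?_ G dvd_rfl P' ρ' hP'
    rw [hσ2]
    exact IsPullback.of_hasPullback _ _
  refine comes_of_comes_closedFibre hp (fun H _ _ hH T θ hT => ?_) hpC hES' P' ρ' hP'
  have hpos : 0 < Nat.card (G × G) := Nat.card_pos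
  have a1' := clInj_restrict f b U hF iA' iA2' (t₁ ≫ h) hU1 (IsPullback.of_hasPullback b (t₁ ≫ h)) hσ' hcl2 sqX'
  have a2' := clSurj_restrict f b U (hFF _ hpos) iA' iA2' hn1 (t₁ ≫ h) hU1
    (IsPullback.of_hasPullback b (t₁ ≫ h)) hσ' hcl2 sqX' H hH _ _ hT
  have b1' := cBij_of_cf _ (clInj_cover _ a1' T) a2'
  have q1' : T.hom ≫ pullback.snd (pullback.snd f σR) (spm φ) ≫ σ' ≫
      pullback.snd b (t₁ ≫ h) = T.hom ≫ pullback.snd (pullback.snd f σR) (spm φ) ≫ spm β' := by
    rw [hσ2']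
  rw [q1'] at b1'
  refine cBij_fst_of_isPullback (b := pullback.lift (pullback.fst _ _ ≫ T.hom) (pullback.snd _ _) ?_) ?_ b1'
  · rw [Category.assoc, pullback.condition]
  · refine IsPullback.of_bot ?_ (pullback.lift_fst _ _ _).symm
      (IsPullback.of_hasPullback (pullback.snd (pullback.snd f σR) (spm φ) ≫ spm β') (resPt A'))
    rw [pullback.lift_snd]
    exact IsPullback.of_hasPullback _ _

/-- **Assembly of S17214.** -/
theorem main (H : H17216.{u}) [IsLocallyNoetherian S] [QuasiCompact f] [QuasiSeparated f]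
    (hF : Faith (f ∣_ (b ⁻¹ᵁ U)) (b ∣_ U)) (hFF : ∀ n : ℕ, 0 < n → FF n (f ∣_ (b ⁻¹ᵁ U)) (b ∣_ U))
    (hES : ∀ n : ℕ, 0 < n → EScN n (f ∣_ (b ⁻¹ᵁ U)) (b ∣_ U)) :
      ∀ (G : Type) [Group G] [Finite G], (∀ s ∈ U, IsUnit ((Nat.card G : ℕ) : S.residueField s)) →
      ∀ ⦃S' Y' : Scheme.{u}⦄ (h : S' ⟶ S), Set.range h.base ⊆ (U : Set S) →
      ∀ (g : Y' ⟶ Y) (b' : Y' ⟶ S'), IsPullback g b' b h →
      ∀ (y' : Y') (R : Type u) [CommRing R] [IsLocalRing R] [Algebra (Y.presheaf.stalk (g.base y')) R]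
        [IsLocalHom (algebraMap (Y.presheaf.stalk (g.base y')) R)]
        [Hensel.IsStrictHenselization (Y.presheaf.stalk (g.base y')) R]
        (R' : Type u) [CommRing R'] [IsLocalRing R'] [Algebra (Y'.presheaf.stalk y') R']
        [IsLocalHom (algebraMap (Y'.presheaf.stalk y') R')] [Hensel.IsStrictHenselization (Y'.presheaf.stalk y') R']
        [Algebra R R'],
        (algebraMap R R').comp (algebraMap (Y.presheaf.stalk (g.base y')) R) =
          (algebraMap (Y'.presheaf.stalk y') R').comp (g.stalkMap y').hom →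
      letI σ := Hens2.specOf Y (g.base y') R
      letI m : Spec (CommRingCat.of R') ⟶ Spec (CommRingCat.of R) := Spec.map (CommRingCat.ofHom (algebraMap R R'))
      letI fR := pullback.snd f σ
      letI kb := pullback.fst fR m
      ∀ (P' : FEt.Cat (pullback fR m)) (ρ' : G →* Aut P'), SGA1t.IsPrincipal G P' ρ' →
        ∃ (P : FEt.Cat (pullback f σ)) (ρ : G →* Aut P), SGA1t.IsPrincipal G P ρ ∧
          ∃ e : (FEt.restrict kb).obj P ≅ P', ∀ x : G, (FEt.restrict kb).map (ρ x).hom ≫ e.hom = e.hom ≫ (ρ' x).hom := by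
  intro G _ _ hG S' Y' h hU g b' hpb y' R _ _ _ _ hR R' _ _ _ _ hR' _ hcomp P' ρ' hP'
  have hloc : IsLocalHom (algebraMap R R') := by
    have h1 := Groth.Agent.Hensel.Exist.map_maximalIdeal_of_isStrictHenselization
      (Y.presheaf.stalk (g.base y')) R
    have h3 : IsLocalHom (g.stalkMap y').hom := inferInstance
    have h4 : IsLocalHom (algebraMap (Y'.presheaf.stalk y') R') := inferInstance
    have h5 := ((local_hom_TFAE (g.stalkMap y').hom).out 0 2).1 h3
    have h6 := ((local_hom_TFAE (algebraMap (Y'.presheaf.stalk y') R')).out 0 2).1 h4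
    have h2 : (maximalIdeal R).map (algebraMap R R') ≤ maximalIdeal R' := by
      rw [← h1, Ideal.map_map, hcomp, ← Ideal.map_map]
      exact (Ideal.map_mono h5).trans h6
    exact ((local_hom_TFAE (algebraMap R R')).out 0 2).2 h2
  exact main' f b U H hF hFF hES G hG h hU g b' hpb (Hens2.specOf Y (g.base y') R)
    (isStrictLoc_specOf Y (g.base y') R) (Hens2.specOf Y' y' R') (isStrictLoc_specOf Y' y' R') (algebraMap R R')
    ((specOf_comm g y' R R' (algebraMap R R')).1 hcomp) P' ρ' hP'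

end EtAcyc.K202.EsMain
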