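import Groth.Agent.Pi1.K868.BcLoc
import Groth.Agent.EtAcyc.K158.EsDesc
import Groth.Agent.EtAcyc.K202.EsMain

/-!
# Essential surjectivity for principal covers: composition of the structure morphism with an arbitrary morphism

* `EScOn n U f b`: `K158.EsDesc.EScAt` for all strictly henselian bases with closed point over `U`.
* `escOn_of_base`: `X ⟶ Y ⟶ S₁ ⟶ S`.
-/

set_option autoImplicit false
universe u

open CategoryTheory CategoryTheory.Limits AlgebraicGeometry IsLocalRing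

namespace EtAcyc.K202.EsBase

open Groth.Agent.Etrest.StrictLoc Groth.Agent.Sga1.UlaSL K868.Bc K158.EsDesc K439.ClFin EtAcyc.K202.Fes
  EtAcyc.K202.EsMain K157.ClDef

/-- `ESc` over a subset of `S`. -/
def EScOn (n : ℕ) {X Y S : Scheme.{u}} (U : Set S) (f : X ⟶ Y) (b : Y ⟶ S) : Prop :=
  ∀ (O : Type u) [CommRing O] [IsLocalRing O]
    (_ : HenselianLocalRing O) (_ : IsSepClosed (ResidueField O)) (_ : IsUnit (n : O))
    (t : Spec (CommRingCat.of O) ⟶ S), t (closedPoint O) ∈ U → EScAt n f b O t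

theorem esc_iff (n : ℕ) {X Y S : Scheme.{u}} (f : X ⟶ Y) (b : Y ⟶ S) : ESc n f b ↔ EScOn n Set.univ f b :=
  ⟨fun h O _ _ hO hk hn t _ A _ _ => h O A hO hk hn t,
    fun h O A _ _ _ _ hO hk hn t => h O hO hk hn t trivial A⟩

theorem EScOn.mono {n : ℕ} {X Y S : Scheme.{u}} {f : X ⟶ Y} {b : Y ⟶ S} {U U' : Set S} (h : EScOn n U f b)
    (hU : U' ⊆ U) : EScOn n U' f b := fun O _ _ hO hk hn t ht => h O hO hk hn t (hU ht)

/-- Comparison of two closed fibres. -/
theorem comes_of_comes_comp {W Xb XA : Scheme.{u}} {j : W ⟶ Xb} {i : Xb ⟶ XA} {G : Type} [Group G] [Finite G]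
    (hcb : ∀ (H : Type) [Group H] [Finite H], Nat.card H ∣ Nat.card (G × G) →
      ∀ (T : FEt.Cat Xb) (θ : H →* Aut T), SGA1t.IsPrincipal H T θ → CBij (pullback.fst T.hom j))
    (hES : ∀ (P' : FEt.Cat W) (ρ' : G →* Aut P'), SGA1t.IsPrincipal G P' ρ' → Comes (j ≫ i) G P' ρ')
    (P' : FEt.Cat Xb) (ρ' : G →* Aut P') (hP' : SGA1t.IsPrincipal G P' ρ') : Comes i G P' ρ' :=
  comes_of_comes_closedFibre (k := i) (i := j ≫ i) (i' := j) (p := 𝟙 W) (Category.id_comp _) hcb
    (fun P₁ ρ₁ hP₁ => comes_of_isIso (𝟙 W) P₁ ρ₁ hP₁) hES P' ρ' hP'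

/-- Clopen subsets of covers and of their restrictions to the closed fibre. -/
theorem cBij_of_cf_cover {O : Type u} [CommRing O] [IsLocalRing O] {X : Scheme.{u}}
    (q : X ⟶ Spec (CommRingCat.of O)) (T : FEt.Cat X) (h1 : ClInj (cf q)) (h2 : ClSurj (cf (T.hom ≫ q))) :
    CBij (pullback.fst T.hom (pullback.fst q (resPt O))) := by
  have b1' := cBij_of_cf _ (clInj_cover _ h1 T) h2
  refine cBij_fst_of_isPullback (b := pullback.lift (pullback.fst _ _ ≫ T.hom) (pullback.snd _ _) ?_) ?_ b1'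
  · rw [Category.assoc, pullback.condition]
  · refine IsPullback.of_bot ?_ (pullback.lift_fst _ _ _).symm (IsPullback.of_hasPullback q (resPt O))
    rw [pullback.lift_snd]
    exact IsPullback.of_hasPullback _ _

theorem surjective_of_isClosedImmersion {A B : Type u} [CommRing A] [CommRing B] (φ : A →+* B)
    [IsClosedImmersion (spm φ)] : Function.Surjective φ := by
  have h1 := (IsClosedImmersion.isAffine_surjective_of_isAffine (spm φ)).2
  have h2 : CommRingCat.ofHom φ = (Scheme.ΓSpecIso (CommRingCat.of A)).inv ≫ (spm φ).appTop ≫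
      (Scheme.ΓSpecIso (CommRingCat.of B)).hom := by
    rw [Scheme.ΓSpecIso_naturality, Iso.inv_hom_id_assoc]
  have h3 : Function.Surjective (CommRingCat.ofHom φ).hom := by
    rw [h2]
    exact ((Scheme.ΓSpecIso (CommRingCat.of B)).commRingCatIsoToRingEquiv.surjective.comp h1).comp
      (Scheme.ΓSpecIso (CommRingCat.of A)).symm.commRingCatIsoToRingEquiv.surjective
  exact h3

/-- Surjective local homomorphisms induce isomorphisms of residue fields. -/
theorem isIso_residue_of_surjective {O O' : Type u} [CommRing O] [IsLocalRing O] [CommRing O'] [IsLocalRing O']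
    (α : O →+* O') [IsLocalHom α] (h : Function.Surjective α) : IsIso (spm (ResidueField.map α)) := by
  apply isIso_spm
  refine ⟨(ResidueField.map α).injective, fun y => ?_⟩
  obtain ⟨y, rfl⟩ := residue_surjective y
  obtain ⟨x, rfl⟩ := h y
  exact ⟨residue O x, rfl⟩

section Base

variable {X Y S₁ S : Scheme.{u}} {f : X ⟶ Y} {g₁ : Y ⟶ S₁} {a : S₁ ⟶ S}

/-- **Composition of the structure morphism with an arbitrary morphism.** -/
theorem escOn_of_base {n : ℕ} {U : Set S} (h : EScOn n (a ⁻¹' U) f g₁) (h1 : FFOn (n * n) (a ⁻¹' U) f g₁)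
    (h2 : FaithOn (a ⁻¹' U) f g₁) : EScOn n U f (g₁ ≫ a) := by
  intro O _ _ hO hk hn t ht A _ _ Y₁ c b₁ sq₁ σ hσ hcl XA x fA sqA Xs i q hi G _ _ hG P' ρ' hP'
  obtain ⟨O₁, _, _, S', a', s', sqS, τ₁, hτ₁, Y₂, y₂, b₂, sqY, σ₂, hσ₂, e1, e2, e3, e4⟩ :=
    baseData sq₁ hσ hcl
  have hp : (τ₁ ≫ s') (closedPoint O₁) ∈ a ⁻¹' U := by
    show a ((τ₁ ≫ s') (closedPoint O₁)) ∈ U
    rw [← Scheme.Hom.comp_apply, Category.assoc, sqS.w, Scheme.Hom.comp_apply, Scheme.Hom.comp_apply, e4]
    exact ht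
  have hn₁ : IsUnit (n : O₁) := by
    have h1 := hn.map (Spec.preimage (τ₁ ≫ a')).hom
    simpa using h1
  have sqA' : IsPullback x fA f (σ₂ ≫ y₂ ≫ c) := by
    rw [← Category.assoc σ₂, e1]
    exact sqA
  -- the fibre over the residue field of `O`
  have sqT : IsPullback (pullback.fst a' (resPt O)) (pullback.snd a' (resPt O)) a' (resPt O) :=
    IsPullback.of_hasPullback _ _
  have hci : IsClosedImmersion (resPt O) :=
    IsClosedImmersion.spec_of_surjective _ IsLocalRing.residue_surjective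
  have hci' : IsClosedImmersion (pullback.fst a' (resPt O)) := inferInstance
  have hrT : Set.range (resPt O) = {closedPoint O} := by
    ext z
    constructor
    · rintro ⟨y, rfl⟩
      exact resPt_closedPoint O y
    · rintro rfl
      exact ⟨closedPoint _, resPt_closedPoint O _⟩
  obtain ⟨Ob, _, _, τb, α, hτb, hα, sqb⟩ := K548.StrictPts.exists_immersion (pullback.fst a' (resPt O)) hτ₁ (by
    obtain ⟨y, hy⟩ : a' (τ₁ (closedPoint O₁)) ∈ Set.range (resPt O) := by rw [hrT, e4]; rfl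
    obtain ⟨w, hw, -⟩ := Scheme.Pullback.exists_preimage_pullback (f := a') (g := resPt O)
      (τ₁ (closedPoint O₁)) y hy.symm
    exact ⟨w, hw⟩)
  have hαi : IsClosedImmersion (spm α) :=
    MorphismProperty.of_isPullback (P := @IsClosedImmersion) sqb inferInstance
  have hαs : Function.Surjective α := surjective_of_isClosedImmersion α
  have hαc : (spm α) (closedPoint Ob) = closedPoint O₁ := IsLocalRing.comap_closedPoint α
  have sqYb : IsPullback (pullback.fst b₂ (spm α)) (pullback.snd b₂ (spm α)) b₂ (spm α) :=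
    IsPullback.of_hasPullback _ _
  have hYi : IsClosedImmersion (pullback.fst b₂ (spm α)) := inferInstance
  obtain ⟨Ab, _, _, σb, α', hσb, hα', sqσ⟩ := K548.StrictPts.exists_immersion (pullback.fst b₂ (spm α)) hσ₂ (by
    obtain ⟨w, hw, -⟩ := Scheme.Pullback.exists_preimage_pullback (f := b₂) (g := spm α)
      (σ₂ (closedPoint A)) (closedPoint Ob) (e2.trans hαc.symm)
    exact ⟨w, hw⟩)
  have hα'c : (spm α') (closedPoint Ab) = closedPoint A := IsLocalRing.comap_closedPoint α'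
  have sqX : IsPullback (pullback.fst fA (spm α')) (pullback.snd fA (spm α')) fA (spm α') :=
    IsPullback.of_hasPullback _ _
  have hpb : (((spm α ≫ τ₁) ≫ s') (closedPoint Ob)) ∈ a ⁻¹' U := by
    rw [Category.assoc, Scheme.Hom.comp_apply, hαc]
    exact hp
  have sqYb' : IsPullback (pullback.fst b₂ (spm α) ≫ y₂ ≫ c) (pullback.snd b₂ (spm α)) g₁ ((spm α ≫ τ₁) ≫ s') := by
    rw [Category.assoc (spm α)]
    exact (sqYb.flip.paste_vert sqY.flip).flip
  have hcb : (pullback.snd b₂ (spm α)) (σb (closedPoint Ab)) = closedPoint Ob := by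
    have h3 : (spm α) ((pullback.snd b₂ (spm α)) (σb (closedPoint Ab))) = (spm α) (closedPoint Ob) := by
      rw [← Scheme.Hom.comp_apply, ← pullback.condition, Scheme.Hom.comp_apply, hαc,
        ← Scheme.Hom.comp_apply σb, sqσ.w, Scheme.Hom.comp_apply, hα'c]
      exact e2
    exact (spm α).injective h3
  have sqXb : IsPullback (pullback.fst fA (spm α') ≫ x) (pullback.snd fA (spm α')) f
      (σb ≫ pullback.fst b₂ (spm α) ≫ y₂ ≫ c) := by
    have h4 : σb ≫ pullback.fst b₂ (spm α) ≫ y₂ ≫ c = spm α' ≫ σ₂ ≫ y₂ ≫ c := by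
      rw [← Category.assoc σb, sqσ.w, Category.assoc]
    rw [h4]
    exact (sqX.flip.paste_vert sqA'.flip).flip
  -- `X_A ×_{O₁} Ob`
  have sqF : IsPullback (pullback.fst fA (spm α')) ((pullback.snd fA (spm α') ≫ σb) ≫ pullback.snd b₂ (spm α))
      ((fA ≫ σ₂) ≫ b₂) (spm α) := (sqX.paste_vert sqσ.flip).paste_vert sqYb
  -- the closed fibre over `O`
  have big : IsPullback (pullback.fst fA (spm α')) ((((pullback.snd fA (spm α') ≫ σb) ≫
      pullback.snd b₂ (spm α)) ≫ τb) ≫ pullback.snd a' (resPt O)) ((((fA ≫ σ₂) ≫ b₂) ≫ τ₁) ≫ a') (resPt O) :=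
    (sqF.paste_vert sqb.flip).paste_vert sqT
  have e5 : (((fA ≫ σ₂) ≫ b₂) ≫ τ₁) ≫ a' = fA ≫ σ ≫ b₁ := by
    rw [← e1, Category.assoc σ₂, e3]
    simp only [Category.assoc]
  rw [e5] at big
  let e : Xs ≅ pullback fA (spm α') := hi.isoIsPullback _ _ big
  have he : e.hom ≫ pullback.fst fA (spm α') = i := hi.isoIsPullback_hom_fst _ _ big
  refine comes_comp e.hom (pullback.fst fA (spm α')) i he (comes_of_isIso e.hom P' ρ' hP') fun P₁ ρ₁ hP₁ => ?_
  -- the closed fibre over `Ob`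
  let qb := pullback.snd fA (spm α') ≫ σb ≫ pullback.snd b₂ (spm α)
  refine comes_of_comes_comp (j := pullback.fst qb (resPt Ob)) (fun H _ _ hH T θ hT => ?_)
    (fun P₂ ρ₂ hP₂ => ?_) P₁ ρ₁ hP₁
  · refine cBij_of_cf_cover qb T ?_ ?_
    · exact h2 Ob hτb.henselian hτb.sepClosed ((spm α ≫ τ₁) ≫ s') hpb Ab (pullback.fst b₂ (spm α) ≫ y₂ ≫ c)
        (pullback.snd b₂ (spm α)) sqYb' σb hσb hcb (pullback.fst fA (spm α') ≫ x) (pullback.snd fA (spm α')) sqXb
    · have hnb : IsUnit ((n * n : ℕ) : Ob) := by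
        have h3 := hn₁.map α
        rw [map_natCast] at h3
        rw [Nat.cast_mul]
        exact h3.mul h3
      refine h1 Ob hτb.henselian hτb.sepClosed hnb ((spm α ≫ τ₁) ≫ s') hpb Ab (pullback.fst b₂ (spm α) ≫ y₂ ≫ c)
        (pullback.snd b₂ (spm α)) sqYb' σb hσb hcb (pullback.fst fA (spm α') ≫ x) (pullback.snd fA (spm α')) sqXb
        H (hH.trans ?_) T θ hT
      rw [Nat.card_prod]
      exact mul_dvd_mul hG hG
  · have hw := isIso_residue_of_surjective α hαs
    have sq1 : IsPullback (pullback.fst qb (resPt Ob)) (pullback.snd qb (resPt Ob)) qb (resPt Ob) :=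
      IsPullback.of_hasPullback _ _
    have sqF' : IsPullback (pullback.fst fA (spm α')) qb (fA ≫ σ₂ ≫ b₂) (spm α) := by
      simpa only [Category.assoc] using sqF
    have sq2 := sq1.paste_horiz sqF'
    rw [resPt_spm] at sq2
    have sq3 : IsPullback (pullback.fst qb (resPt Ob) ≫ pullback.fst fA (spm α'))
        (pullback.snd qb (resPt Ob) ≫ spm (ResidueField.map α)) (fA ≫ σ₂ ≫ b₂) (resPt O₁) := by
      refine IsPullback.of_iso sq2 (Iso.refl _) (Iso.refl _) (asIso (spm (ResidueField.map α))) (Iso.refl _)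
        (by simp) (by simp) (by simp) (by simp)
    exact h O₁ hτ₁.henselian hτ₁.sepClosed hn₁ (τ₁ ≫ s') hp A (y₂ ≫ c) b₂ sqY σ₂ hσ₂ e2 x fA sqA' _ _ sq3 G hG
      P₂ ρ₂ hP₂

end Base

end EtAcyc.K202.EsBase
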