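import Groth.Agent.EtAcyc.K202.FesMain
import Groth.Agent.EtAcyc.K439.FinMain
import Groth.Agent.Pi1.K260.EsDef

/-!
# Principal covers of the closed fibres of two compatible strictly henselian bases
-/

set_option autoImplicit false
universe u

open CategoryTheory CategoryTheory.Limits AlgebraicGeometry IsLocalRing

namespace EtAcyc.K202.EsMain

open Groth.Agent.Etrest.StrictLoc Groth.Agent.Sga1.UlaSL K868.Bc K260.Es K439.ClFin EtAcyc.K202.Fes

section Restrict

variable {X Y S : Scheme.{u}} (f : X ⟶ Y) (b : Y ⟶ S) (U : S.Opens)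

theorem escN_restrict {n : ℕ} (hE : EScN n (f ∣_ (b ⁻¹ᵁ U)) (b ∣_ U)) {O A : Type u} [CommRing O] [IsLocalRing O]
    [CommRing A] [IsLocalRing A] (hO : HenselianLocalRing O) (hO' : IsSepClosed (ResidueField O))
    (hON : IsNoetherianRing O) (hn : IsUnit (n : O))
    (t : Spec (CommRingCat.of O) ⟶ S) (ht : t (closedPoint O) ∈ U) {Y₁ : Scheme.{u}} {c : Y₁ ⟶ Y}
    {b₁ : Y₁ ⟶ Spec (CommRingCat.of O)} (hY : IsPullback c b₁ b t) {σ : Spec (CommRingCat.of A) ⟶ Y₁}
    (hσ : IsStrictLoc σ) (hs : b₁ (σ (closedPoint A)) = closedPoint O) {XA : Scheme.{u}} {x : XA ⟶ X}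
    {fA : XA ⟶ Spec (CommRingCat.of A)} (hX : IsPullback x fA f (σ ≫ c))
    {Xs : Scheme.{u}} {i : Xs ⟶ XA} {q : Xs ⟶ Spec (CommRingCat.of (ResidueField O))}
    (hi : IsPullback i q (fA ≫ σ ≫ b₁) (resPt O))
    (G : Type) [Group G] [Finite G] (hG : Nat.card G ∣ n) (P' : FEt.Cat Xs) (ρ' : G →* Aut P')
    (hP' : SGA1t.IsPrincipal G P' ρ') : Comes i G P' ρ' := by
  obtain ⟨tU, cU, h1, h2, h3⟩ := exists_restrict b U hY (range_subset_of_closedPoint U t ht)
  obtain ⟨sU, xU, h4, h5, h6⟩ := exists_restrict f (b ⁻¹ᵁ U) hX (by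
    rintro _ ⟨z, rfl⟩
    rw [← h2, ← Category.assoc, Scheme.Hom.comp_apply]
    exact ((σ ≫ cU) z).2)
  have h7 : sU = σ ≫ cU := by
    rw [← cancel_mono (b ⁻¹ᵁ U).ι, h4, Category.assoc, h2]
  rw [h7] at h6
  exact hE O A hO hO' hON hn tU cU b₁ h3 σ hσ hs xU fA h6 i q hi G hG P' ρ' hP'

end Restrict

section Core

variable {X Y S : Scheme.{u}} {f : X ⟶ Y} {b : Y ⟶ S} {A R A' R' : Type u} [CommRing A] [IsLocalRing A]
  [CommRing R] [IsLocalRing R] [CommRing A'] [IsLocalRing A'] [CommRing R'] [IsLocalRing R']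
  {t : Spec (CommRingCat.of A) ⟶ S} {t' : Spec (CommRingCat.of A') ⟶ S}
  {Y₁ Y₁' : Scheme.{u}} {c : Y₁ ⟶ Y} {b₁ : Y₁ ⟶ Spec (CommRingCat.of A)} (hY : IsPullback c b₁ b t)
  {c' : Y₁' ⟶ Y} {b₁' : Y₁' ⟶ Spec (CommRingCat.of A')} (hY' : IsPullback c' b₁' b t')
  {σ : Spec (CommRingCat.of R) ⟶ Y₁} (hσ : IsStrictLoc σ)
  {σ' : Spec (CommRingCat.of R') ⟶ Y₁'} (hσ' : IsStrictLoc σ')
  (β : A →+* R) [IsLocalHom β] (hβ : σ ≫ b₁ = spm β)
  (β' : A' →+* R') [IsLocalHom β'] (hβ' : σ' ≫ b₁' = spm β')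
  (α : A →+* A') [IsLocalHom α] (hα : spm α ≫ t = t')
  (φ : R →+* R') [IsLocalHom φ] (hφ : spm φ ≫ σ ≫ c = σ' ≫ c')
  (hc : φ.comp β = β'.comp α)

include hY hY' hσ hσ' hβ hβ' hα hφ hc in
/-- **Core.** Principal covers of the closed fibre of `X_{R'}` come from the closed fibre of `X_R`. -/
theorem exists_comes (H : H17216.{u}) [QuasiCompact f] [QuasiSeparated f] [IsSepClosed (ResidueField A')]
    {G : Type} [Group G] [Finite G] (hG : IsUnit ((Nat.card G : ℕ) : A))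
    {XR XR' : Scheme.{u}} {x : XR ⟶ X} {fR : XR ⟶ Spec (CommRingCat.of R)} (hx : IsPullback x fR f (σ ≫ c))
    {k : XR' ⟶ XR} {fR' : XR' ⟶ Spec (CommRingCat.of R')} (hk : IsPullback k fR' fR (spm φ)) :
    ∃ p : pullback (fR' ≫ spm β') (resPt A') ⟶ pullback (fR ≫ spm β) (resPt A),
      p ≫ pullback.fst (fR ≫ spm β) (resPt A) = pullback.fst (fR' ≫ spm β') (resPt A') ≫ k ∧
      ∀ (P' : FEt.Cat (pullback (fR' ≫ spm β') (resPt A'))) (ρ' : G →* Aut P'), SGA1t.IsPrincipal G P' ρ' →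
        Comes p G P' ρ' := by
  have i1 := isLocalRing_DD β
  have i2 := isLocalRing_DD β'
  -- comparison of the base changes
  let d : Y₁' ⟶ Y₁ := hY.lift c' (b₁' ≫ spm α) (by rw [Category.assoc, hα]; exact hY'.w)
  have hd1 : d ≫ c = c' := hY.lift_fst _ _ _
  have hd2 : d ≫ b₁ = b₁' ≫ spm α := hY.lift_snd _ _ _
  have sqd : IsPullback d b₁' b₁ (spm α) := by
    refine IsPullback.of_right (h₁₂ := c) (v₁₃ := b) (h₂₂ := t) ?_ hd2 hY
    rw [hd1, hα]
    exact hY'
  have h1 : IsPullback (pullback.fst b₁ (resPt A)) (pullback.snd b₁ (resPt A)) b₁ (resPt A) :=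
    IsPullback.of_hasPullback _ _
  have h1' : IsPullback (pullback.fst b₁' (resPt A')) (pullback.snd b₁' (resPt A')) b₁' (resPt A') :=
    IsPullback.of_hasPullback _ _
  let w : pullback b₁' (resPt A') ⟶ pullback b₁ (resPt A) :=
    pullback.lift (pullback.fst b₁' (resPt A') ≫ d) (pullback.snd b₁' (resPt A') ≫ spm (ResidueField.map α)) (by
      rw [Category.assoc, Category.assoc, hd2, ← resPt_spm, ← Category.assoc, pullback.condition, Category.assoc])
  have hw1 : w ≫ pullback.fst b₁ (resPt A) = pullback.fst b₁' (resPt A') ≫ d := pullback.lift_fst _ _ _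
  have hw2 : w ≫ pullback.snd b₁ (resPt A) = pullback.snd b₁' (resPt A') ≫ spm (ResidueField.map α) :=
    pullback.lift_snd _ _ _
  have sqw : IsPullback w (pullback.snd b₁' (resPt A')) (pullback.snd b₁ (resPt A)) (spm (ResidueField.map α)) := by
    refine IsPullback.of_right (h₁₂ := pullback.fst b₁ (resPt A)) (v₁₃ := b₁) (h₂₂ := resPt A) ?_ hw2 h1
    rw [hw1, ← resPt_spm]
    exact h1'.paste_horiz sqd
  have hloc : IsLocalHom (phiBar β β' α φ hc) := by
    constructor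
    intro x hx
    obtain ⟨r, rfl⟩ := Ideal.Quotient.mk_surjective x
    have h3 : IsUnit (Ideal.Quotient.mk ((maximalIdeal A').map β') (φ r)) := hx
    have h4 : IsLocalHom (Ideal.Quotient.mk ((maximalIdeal A').map β')) :=
      IsLocalHom.of_surjective _ Ideal.Quotient.mk_surjective
    exact ((isUnit_of_map_unit φ r (isUnit_of_map_unit _ _ h3))).map _
  have e1 : spm φ ≫ σ = σ' ≫ d := by
    apply hY.hom_ext
    · rw [Category.assoc, Category.assoc, hd1, hφ]
    · rw [Category.assoc, Category.assoc, hβ, hd2, ← Category.assoc, hβ', ← spm_comp, ← spm_comp, hc]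
  have e2 : spm (phiBar β β' α φ hc) ≫ rho β hβ = rho β' hβ' ≫ w := by
    apply h1.hom_ext
    · rw [Category.assoc, Category.assoc, rho_fst, hw1, ← Category.assoc (rho β' hβ'), rho_fst, Category.assoc, ← e1,
        ← Category.assoc, ← Category.assoc, ← spm_comp, ← spm_comp, phiBar_mk]
    · rw [Category.assoc, Category.assoc, rho_snd, hw2, ← Category.assoc (rho β' hβ'), rho_snd, ← spm_comp,
        ← spm_comp, phiBar_psi]
  -- the closed fibre of `X_R`
  have emk : spm (Ideal.Quotient.mk ((maximalIdeal A').map β')) ≫ spm φ =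
      spm (phiBar β β' α φ hc) ≫ spm (Ideal.Quotient.mk ((maximalIdeal A).map β)) := by
    rw [← spm_comp, ← spm_comp, phiBar_mk]
  let p : pullback (fR' ≫ spm β') (resPt A') ⟶ pullback (fR ≫ spm β) (resPt A) :=
    (sqT β fR).lift (pullback.fst (fR' ≫ spm β') (resPt A') ≫ k) (rr β' fR' ≫ spm (phiBar β β' α φ hc)) (by
      rw [Category.assoc, Category.assoc, hk.w, ← emk, ← Category.assoc, (sqT β' fR').w, Category.assoc])
  have hp1 : p ≫ pullback.fst (fR ≫ spm β) (resPt A) = pullback.fst (fR' ≫ spm β') (resPt A') ≫ k :=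
    (sqT β fR).lift_fst _ _ _
  have hp2 : p ≫ rr β fR = rr β' fR' ≫ spm (phiBar β β' α φ hc) := (sqT β fR).lift_snd _ _ _
  have sqp : IsPullback p (rr β' fR') (rr β fR) (spm (phiBar β β' α φ hc)) := by
    refine IsPullback.of_right (h₁₂ := pullback.fst (fR ≫ spm β) (resPt A)) (v₁₃ := fR)
      (h₂₂ := spm (Ideal.Quotient.mk ((maximalIdeal A).map β))) ?_ hp2 (sqT β fR)
    rw [hp1, ← emk]
    exact (sqT β' fR').paste_horiz hk
  have hX : IsPullback (pullback.fst f (pullback.fst b₁ (resPt A) ≫ c))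
      (pullback.snd f (pullback.fst b₁ (resPt A) ≫ c)) f (pullback.fst b₁ (resPt A) ≫ c) :=
    IsPullback.of_hasPullback _ _
  have e3 : rho β hβ ≫ pullback.fst b₁ (resPt A) ≫ c =
      spm (Ideal.Quotient.mk ((maximalIdeal A).map β)) ≫ σ ≫ c := by
    rw [← Category.assoc, rho_fst, Category.assoc]
  have sq3 := (sqT β fR).paste_horiz hx
  rw [← e3, ← Category.assoc] at sq3
  rw [Category.assoc] at sq3
  let xD : pullback (fR ≫ spm β) (resPt A) ⟶ pullback f (pullback.fst b₁ (resPt A) ≫ c) :=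
    hX.lift (pullback.fst (fR ≫ spm β) (resPt A) ≫ x) (rr β fR ≫ rho β hβ) (by
      rw [sq3.w, Category.assoc])
  have hxD1 : xD ≫ pullback.fst f (pullback.fst b₁ (resPt A) ≫ c) = pullback.fst (fR ≫ spm β) (resPt A) ≫ x :=
    hX.lift_fst _ _ _
  have hxD2 : xD ≫ pullback.snd f (pullback.fst b₁ (resPt A) ≫ c) = rr β fR ≫ rho β hβ := hX.lift_snd _ _ _
  have sqx : IsPullback xD (rr β fR) (pullback.snd f (pullback.fst b₁ (resPt A) ≫ c)) (rho β hβ) := by
    refine IsPullback.of_right (h₁₂ := pullback.fst f (pullback.fst b₁ (resPt A) ≫ c)) (v₁₃ := f)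
      (h₂₂ := pullback.fst b₁ (resPt A) ≫ c) ?_ hxD2 hX
    rw [hxD1]
    exact sq3
  have hGk : IsUnit ((Nat.card G : ℕ) : ResidueField A) := by
    have := hG.map (residue A)
    rwa [map_natCast] at this
  refine ⟨p, hp1, fun P' ρ' hP' => ?_⟩
  exact fes' H (Nat.card G) (pullback.snd f (pullback.fst b₁ (resPt A) ≫ c)) (pullback.snd b₁ (resPt A))
    (ResidueField A') (DD β) (DD β') hGk (ResidueField.map α) (rho β hβ) (isStrictLoc_rho β hσ hβ) w
    (pullback.snd b₁' (resPt A')) sqw (rho β' hβ') (isStrictLoc_rho β' hσ' hβ') (phiBar β β' α φ hc) hloc e2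
    xD (rr β fR) sqx p (rr β' fR') sqp G dvd_rfl P' ρ' hP'

end Core

end EtAcyc.K202.EsMain
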