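import Groth.Agent.EtAcyc.K202.EsOn
import Groth.Agent.Pi1.K153.EsCalc
import Groth.Agent.Pi1.K868.BcNoeth

/-!
# The end of S17214

`final`: S17214 from the statement of S17216, generic faithfulness and full faithfulness (`Geo`, `FFNor`) and generic
essential surjectivity (`K153.EsCalc.GES`).
-/

set_option autoImplicit false
universe u

open CategoryTheory CategoryTheory.Limits AlgebraicGeometry IsLocalRing

namespace EtAcyc.K202.EsBase

open Groth.Agent.Etrest.StrictLoc Groth.Agent.Sga1.UlaSL K868.Bc K158.EsDesc EtAcyc.K202.Fes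

theorem escOn_iff {n : ℕ} {X Y S : Scheme.{u}} {f : X ⟶ Y} {b : Y ⟶ S} {U : Set S} :
    EScOn n U f b ↔ K153.EsCalc.EScOn n U f b := Iff.rfl

theorem ges_iff {X Y S : Scheme.{u}} {f : X ⟶ Y} {b : Y ⟶ S} {η : S} : GES η f b ↔ K153.EsCalc.GES η f b := Iff.rfl

/-- Generic essential surjectivity gives a dense open subset. -/
theorem exists_dense_es {X Y S : Scheme.{u}} (f : X ⟶ Y) (b : Y ⟶ S)
    (h : ∀ x : S, ∃ η : S, η ⤳ x ∧ K153.EsCalc.GES η f b) :
    ∃ U : S.Opens, Dense (U : Set S) ∧ ∀ n, EScOn n (U : Set S) f b := by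
  let 𝒰 : Set S.Opens := {U | ∀ n, EScOn n (U : Set S) f b}
  refine ⟨sSup 𝒰, ?_, ?_⟩
  · intro x
    obtain ⟨η, hη, U, hU, hU'⟩ := h x
    refine hη.mem_closed isClosed_closure (subset_closure ?_)
    exact TopologicalSpace.Opens.mem_sSup.2 ⟨U, hU', hU⟩
  · intro n O _ _ hO hk hn t ht
    obtain ⟨U, hU, hU'⟩ := TopologicalSpace.Opens.mem_sSup.1 ht
    exact hU n O hO hk hn t hU'

/-- **S17214** from its four ingredients. -/
theorem final (H : H17216.{u}) (hgeo : Geo.{u}) (hnor : FFNor.{u})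
    (hges : ∀ {X Y S : Scheme.{u}} [AlgebraicGeometry.IsNoetherian S] (f : X ⟶ Y) (b : Y ⟶ S)
      [LocallyOfFiniteType f] [QuasiCompact f] [LocallyOfFiniteType b] [QuasiCompact b] (x : S),
      ∃ η : S, η ⤳ x ∧ K153.EsCalc.GES η f b)
    {X Y S : Scheme.{u}} [AlgebraicGeometry.IsNoetherian S] (f : X ⟶ Y) (b : Y ⟶ S)
    [LocallyOfFiniteType f] [QuasiCompact f] [LocallyOfFiniteType b] [QuasiCompact b] :
    ∃ U : S.Opens, Dense (U : Set S) ∧
      ∀ (G : Type) [Group G] [Finite G], (∀ s ∈ U, IsUnit ((Nat.card G : ℕ) : S.residueField s)) →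
      ∀ ⦃S' Y' : Scheme.{u}⦄ (h : S' ⟶ S), Set.range h.base ⊆ (U : Set S) →
      ∀ (g : Y' ⟶ Y) (b' : Y' ⟶ S'), IsPullback g b' b h →
      ∀ (y' : Y') (R : Type u) [CommRing R] [IsLocalRing R] [Algebra (Y.presheaf.stalk (g.base y')) R]
        [IsLocalHom (algebraMap (Y.presheaf.stalk (g.base y')) R)]
        [Hensel.IsStrictHenselization (Y.presheaf.stalk (g.base y')) R]
        (R' : Type u) [CommRing R'] [IsLocalRing R'] [Algebra (Y'.presheaf.stalk y') R']
        [IsLocalHom (algebraMap (Y'.presheaf.stalk y') R')] [Hensel.IsStrictHenselization (Y'.presheaf.stalk y') R']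
        [Algebra R R'],
        (algebraMap R R').comp (algebraMap (Y.presheaf.stalk (g.base y')) R) =
          (algebraMap (Y'.presheaf.stalk y') R').comp (g.stalkMap y').hom →
      letI σ := Hens2.specOf Y (g.base y') R
      letI m : Spec (CommRingCat.of R') ⟶ Spec (CommRingCat.of R) := Spec.map (CommRingCat.ofHom (algebraMap R R'))
      letI fR := pullback.snd f σ
      letI kb := pullback.fst fR m
      ∀ (P' : FEt.Cat (pullback fR m)) (ρ' : G →* Aut P'), SGA1t.IsPrincipal G P' ρ' →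
        ∃ (P : FEt.Cat (pullback f σ)) (ρ : G →* Aut P), SGA1t.IsPrincipal G P ρ ∧
          ∃ e : (FEt.restrict kb).obj P ≅ P', ∀ x : G, (FEt.restrict kb).map (ρ x).hom ≫ e.hom = e.hom ≫ (ρ' x).hom := by
  obtain ⟨U₁, hU₁, h1, h2⟩ := exists_dense_open hgeo hnor f b
  obtain ⟨U₂, hU₂, h3⟩ := exists_dense_es f b (hges f b)
  have : IsLocallyNoetherian Y := LocallyOfFiniteType.isLocallyNoetherian b
  have : IsLocallyNoetherian X := LocallyOfFiniteType.isLocallyNoetherian f
  have : QuasiSeparated f := inferInstance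
  refine ⟨U₁ ⊓ U₂, hU₁.inter_of_isOpen_left hU₂ U₁.isOpen, ?_⟩
  exact main_on f b (U₁ ⊓ U₂) H (h1.mono fun x hx => hx.1) (fun n _ => (h2 n).mono fun x hx => hx.1)
    (fun n _ => (h3 n).mono fun x hx => hx.2)

end EtAcyc.K202.EsBase
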