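import Groth.Agent.EtAcyc.K202.EsBase

/-!
# S17214 from the pointwise conditions

* `escAt_bc`, `escAt_of_bc`, `escOn_bc`, `escOn_of_open`: base change.
* `main_on`: `FaithOn U`, `FFOn n U`, `EScOn n U` for all `n > 0` give the conclusion of S17214 for `U`.
* `GES η f b`; `main_generic`.
-/

set_option autoImplicit false
universe u

open CategoryTheory CategoryTheory.Limits AlgebraicGeometry IsLocalRing

namespace EtAcyc.K202.EsBase

open Groth.Agent.Etrest.StrictLoc Groth.Agent.Sga1.UlaSL K868.Bc K158.EsDesc EtAcyc.K202.Fes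

section BC

variable {X Y S X' Y' S' : Scheme.{u}} {f : X ⟶ Y} {b : Y ⟶ S} {f' : X' ⟶ Y'} {b' : Y' ⟶ S'} {x' : X' ⟶ X}
  {y : Y' ⟶ Y} {s : S' ⟶ S} (hy : IsPullback y b' b s) (hx : IsPullback x' f' f y) {O : Type u} [CommRing O]
  [IsLocalRing O] {t' : Spec (CommRingCat.of O) ⟶ S'}

include hy hx

theorem escAt_bc {n : ℕ} (h : EScAt n f b O (t' ≫ s)) : EScAt n f' b' O t' := by
  intro A _ _ Y₁ c b₁ sq₁ σ hσ hcl XA x fA sqA Xs i q hi G _ _ hG P' ρ' hP'
  refine h A (c ≫ y) b₁ (sq₁.paste_horiz hy) σ hσ hcl (x ≫ x') fA ?_ i q hi G hG P' ρ' hP'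
  rw [← Category.assoc]
  exact sqA.paste_horiz hx

theorem escAt_of_bc {n : ℕ} (h : EScAt n f' b' O t') : EScAt n f b O (t' ≫ s) := by
  intro A _ _ Y₁ c b₁ sq₁ σ hσ hcl XA x fA sqA Xs i q hi G _ _ hG P' ρ' hP'
  let c' : Y₁ ⟶ Y' := hy.lift c (b₁ ≫ t') (by rw [sq₁.w, Category.assoc])
  have hc1 : c' ≫ y = c := hy.lift_fst _ _ _
  have hc2 : c' ≫ b' = b₁ ≫ t' := hy.lift_snd _ _ _
  have sqc : IsPullback c' b₁ b' t' := by
    refine IsPullback.of_right (h₁₂ := y) (v₁₃ := b) (h₂₂ := s) ?_ hc2 hy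
    rw [hc1]
    exact sq₁
  let x₁ : XA ⟶ X' := hx.lift x (fA ≫ σ ≫ c') (by rw [sqA.w, Category.assoc, Category.assoc, hc1])
  have hx1 : x₁ ≫ x' = x := hx.lift_fst _ _ _
  have hx2 : x₁ ≫ f' = fA ≫ σ ≫ c' := hx.lift_snd _ _ _
  refine h A c' b₁ sqc σ hσ hcl x₁ fA ?_ i q hi G hG P' ρ' hP'
  refine IsPullback.of_right (h₁₂ := x') (v₁₃ := f) (h₂₂ := y) ?_ hx2 hx
  rw [hx1, Category.assoc, hc1]
  exact sqA

omit [IsLocalRing O] in
theorem escOn_bc {n : ℕ} {U : Set S} (h : EScOn n U f b) : EScOn n (s ⁻¹' U) f' b' :=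
  fun O _ _ hO hk hn t ht => escAt_bc hy hx (h O hO hk hn (t ≫ s) (by rw [Scheme.Hom.comp_apply]; exact ht))

omit [IsLocalRing O] in
theorem escOn_of_open {n : ℕ} [IsOpenImmersion s] {U : Set S'} (h : EScOn n U f' b') : EScOn n (s '' U) f b := by
  rintro O _ _ hO hk hn t ⟨z, hz, hzt⟩
  obtain ⟨t', rfl⟩ := Groth.Agent.Etbc.H192.Glue.exists_lift s t ⟨z, hzt⟩
  refine escAt_of_bc hy hx (h O hO hk hn t' ?_)
  rw [Scheme.Hom.comp_apply] at hzt
  rw [← s.injective hzt]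
  exact hz

end BC

/-- Essential surjectivity over a neighbourhood of `η`. -/
def GES {X Y S : Scheme.{u}} (η : S) (f : X ⟶ Y) (b : Y ⟶ S) : Prop :=
  ∃ U : S.Opens, η ∈ U ∧ ∀ n, EScOn n (U : Set S) f b

section Main

variable {X Y S : Scheme.{u}} (f : X ⟶ Y) (b : Y ⟶ S) (U : S.Opens)

theorem preimage_ι : U.ι ⁻¹' (U : Set S) = Set.univ := by
  ext x
  exact ⟨fun _ => trivial, fun _ => x.2⟩

/-- **Assembly of S17214**, pointwise form. -/
theorem main_on (H : H17216.{u}) [IsLocallyNoetherian S] [QuasiCompact f] [QuasiSeparated f]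
    (hF : FaithOn (U : Set S) f b) (hFF : ∀ n : ℕ, 0 < n → FFOn n (U : Set S) f b)
    (hES : ∀ n : ℕ, 0 < n → EScOn n (U : Set S) f b) :
      ∀ (G : Type) [Group G] [Finite G], (∀ s ∈ U, IsUnit ((Nat.card G : ℕ) : S.residueField s)) →
      ∀ ⦃S' Y' : Scheme.{u}⦄ (h : S' ⟶ S), Set.range h.base ⊆ (U : Set S) →
      ∀ (g : Y' ⟶ Y) (b' : Y' ⟶ S'), IsPullback g b' b h →
      ∀ (y' : Y') (R : Type u) [CommRing R] [IsLocalRing R] [Algebra (Y.presheaf.stalk (g.base y')) R]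
        [IsLocalHom (algebraMap (Y.presheaf.stalk (g.base y')) R)]
        [Hensel.IsStrictHenselization (Y.presheaf.stalk (g.base y')) R]
        (R' : Type u) [CommRing R'] [IsLocalRing R'] [Algebra (Y'.presheaf.stalk y') R']
        [IsLocalHom (algebraMap (Y'.presheaf.stalk y') R')] [Hensel.IsStrictHenselization (Y'.presheaf.stalk y') R']
        [Algebra R R'],
        (algebraMap R R').comp (algebraMap (Y.presheaf.stalk (g.base y')) R) =
          (algebraMap (Y'.presheaf.stalk y') R').comp (g.stalkMap y').hom →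
      letI σ := Hens2.specOf Y (g.base y') R
      letI m : Spec (CommRingCat.of R') ⟶ Spec (CommRingCat.of R) := Spec.map (CommRingCat.ofHom (algebraMap R R'))
      letI fR := pullback.snd f σ
      letI kb := pullback.fst fR m
      ∀ (P' : FEt.Cat (pullback fR m)) (ρ' : G →* Aut P'), SGA1t.IsPrincipal G P' ρ' →
        ∃ (P : FEt.Cat (pullback f σ)) (ρ : G →* Aut P), SGA1t.IsPrincipal G P ρ ∧
          ∃ e : (FEt.restrict kb).obj P ≅ P', ∀ x : G, (FEt.restrict kb).map (ρ x).hom ≫ e.hom = e.hom ≫ (ρ' x).hom := by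
  have hy : IsPullback (b ⁻¹ᵁ U).ι (b ∣_ U) b U.ι := (isPullback_morphismRestrict b U).flip
  have hx : IsPullback (f ⁻¹ᵁ (b ⁻¹ᵁ U)).ι (f ∣_ (b ⁻¹ᵁ U)) f (b ⁻¹ᵁ U).ι :=
    (isPullback_morphismRestrict f (b ⁻¹ᵁ U)).flip
  refine EsMain.main f b U H ((faith_iff _ _).2 ?_) (fun n hn => (ff_iff _ _ _).2 ?_)
    (fun n hn => K260.Es.escN_of_esc ((esc_iff _ _ _).2 ?_))
  · rw [← preimage_ι U]
    exact faithOn_bc hy hx hF
  · rw [← preimage_ι U]
    exact ffOn_bc hy hx (hFF n hn)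
  · rw [← preimage_ι U]
    exact escOn_bc hy hx (hES n hn)

/-- Opens containing all generic points are dense. -/
theorem dense_of_generic (hU : ∀ η : S, closure {η} ∈ irreducibleComponents S → η ∈ U) : Dense (U : Set S) := by
  intro s
  have hirr : IsIrreducible (irreducibleComponent s) := isIrreducible_irreducibleComponent
  obtain ⟨η, hη⟩ := QuasiSober.sober hirr isClosed_irreducibleComponent
  have h1 : η ∈ U := hU η (by
    rw [hη.def]
    exact irreducibleComponent_mem_irreducibleComponents s)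
  have h2 : η ⤳ s := by
    rw [specializes_iff_mem_closure, hη.def]
    exact mem_irreducibleComponent
  have h3 : closure {η} ⊆ closure (U : Set S) := closure_mono (Set.singleton_subset_iff.2 h1)
  exact h3 (specializes_iff_mem_closure.1 h2)

/-- From the generic points to a dense open subset. -/
theorem exists_dense (h : ∀ η : S, closure {η} ∈ irreducibleComponents S →
    GFaith η f b ∧ GFF η f b ∧ GES η f b) :
    ∃ U : S.Opens, Dense (U : Set S) ∧ FaithOn (U : Set S) f b ∧ (∀ n, FFOn n (U : Set S) f b) ∧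
      ∀ n, EScOn n (U : Set S) f b := by
  choose! h1 h2 h3 using h
  have key : ∀ η : {η : S // closure {η} ∈ irreducibleComponents S}, ∃ U : S.Opens, η.1 ∈ U ∧
      FaithOn (U : Set S) f b ∧ (∀ n, FFOn n (U : Set S) f b) ∧ ∀ n, EScOn n (U : Set S) f b := by
    intro η
    obtain ⟨U₁, a1, b1⟩ := h1 η.1 η.2
    obtain ⟨U₂, a2, b2⟩ := h2 η.1 η.2
    obtain ⟨U₃, a3, b3⟩ := h3 η.1 η.2
    refine ⟨U₁ ⊓ U₂ ⊓ U₃, ⟨⟨a1, a2⟩, a3⟩, b1.mono fun x hx => hx.1.1, fun n => (b2 n).mono fun x hx => hx.1.2,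
      fun n => (b3 n).mono fun x hx => hx.2⟩
  choose V hV hV1 hV2 hV3 using key
  have hmem : ∀ x : S, x ∈ (⨆ η, V η : S.Opens) → ∃ η, x ∈ V η := by
    intro x hx
    exact TopologicalSpace.Opens.mem_iSup.1 hx
  refine ⟨⨆ η, V η, dense_of_generic _ fun η hη => ?_, ?_, ?_, ?_⟩
  · exact TopologicalSpace.Opens.mem_iSup.2 ⟨⟨η, hη⟩, hV _⟩
  · intro O _ _ hO hk t ht
    obtain ⟨η, hη⟩ := hmem _ ht
    exact hV1 η O hO hk t hη
  · intro n O _ _ hO hk hn t ht
    obtain ⟨η, hη⟩ := hmem _ ht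
    exact hV2 η n O hO hk hn t hη
  · intro n O _ _ hO hk hn t ht
    obtain ⟨η, hη⟩ := hmem _ ht
    exact hV3 η n O hO hk hn t hη

end Main

end EtAcyc.K202.EsBase
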