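import Groth.Agent.Pi1.K868.BcDefEs
import Groth.Agent.EtAcyc.K548.SpreadPrin
import Groth.Agent.Pi1.H383.PrincBC
import Groth.Agent.Sga1.UlaSL
import Mathlib.RingTheory.FiniteType

/-!
# Principal covers over strict localizations: the generic base change theorem along a morphism of finite type

* `comes_comp`, `comes_of_isIso`: calculus of `K868.Bc.Comes`.
* `comes_stage`: the statement of S17216 for `Spec A ⟶ Spec k`, `A` of finite type over the field `k`, for arbitrary
  cartesian squares and strict localizations.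
-/

set_option autoImplicit false
universe u

open CategoryTheory CategoryTheory.Limits AlgebraicGeometry IsLocalRing

namespace EtAcyc.K202.Fes

open Groth.Agent.Etrest.StrictLoc Groth.Agent.Pi1A.FEtAffine Groth.Agent.Pi1.H383.PrincBC K548.SpreadPrin
  K868.Bc Groth.Agent.Sga1.UlaSL

/-- The statement of S17216. -/
def H17216 : Prop :=
  ∀ {X S : Scheme.{u}} (a : X ⟶ S) [IsNoetherian S]
    [LocallyOfFiniteType a] [QuasiCompact a],
    ∃ U : S.Opens, Dense (U : Set S) ∧
      ∀ ⦃Y Z Z' : Scheme.{u}⦄ (c : Z ⟶ S), Set.range c.base ⊆ (U : Set S) →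
      ∀ (G : Type) [Group G] [Finite G], (∀ z : Z, IsUnit ((Nat.card G : ℕ) : Z.residueField z)) →
      ∀ (g : Y ⟶ Z) [QuasiCompact g] [QuasiSeparated g] (p : Z' ⟶ Z) (q : Z' ⟶ X), IsPullback p q c a →
      ∀ (z' : Z') (R : Type u) [CommRing R] [IsLocalRing R] [Algebra (Z.presheaf.stalk (p.base z')) R]
        [IsLocalHom (algebraMap (Z.presheaf.stalk (p.base z')) R)]
        [Hensel.IsStrictHenselization (Z.presheaf.stalk (p.base z')) R]
        (R' : Type u) [CommRing R'] [IsLocalRing R'] [Algebra (Z'.presheaf.stalk z') R']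
        [IsLocalHom (algebraMap (Z'.presheaf.stalk z') R')] [Hensel.IsStrictHenselization (Z'.presheaf.stalk z') R']
        [Algebra R R'],
        (algebraMap R R').comp (algebraMap (Z.presheaf.stalk (p.base z')) R) =
          (algebraMap (Z'.presheaf.stalk z') R').comp (p.stalkMap z').hom →
      letI σ := Hens2.specOf Z (p.base z') R
      letI m : Spec (CommRingCat.of R') ⟶ Spec (CommRingCat.of R) := Spec.map (CommRingCat.ofHom (algebraMap R R'))
      letI gR := pullback.snd g σ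
      letI kb := pullback.fst gR m
      ∀ (P' : FEt.Cat (pullback gR m)) (ρ' : G →* Aut P'), SGA1t.IsPrincipal G P' ρ' →
        ∃ (P : FEt.Cat (pullback g σ)) (ρ : G →* Aut P), SGA1t.IsPrincipal G P ρ ∧
          ∃ e : (FEt.restrict kb).obj P ≅ P', ∀ x : G, (FEt.restrict kb).map (ρ x).hom ≫ e.hom = e.hom ≫ (ρ' x).hom

/-- Composition. -/
theorem comes_comp {X'' X' X : Scheme.{u}} (j : X'' ⟶ X') (i : X' ⟶ X) (k : X'' ⟶ X) (w : j ≫ i = k)
    {G : Type} [Group G] {P'' : FEt.Cat X''} {ρ'' : G →* Aut P''} (hj : Comes j G P'' ρ'')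
    (hi : ∀ (P' : FEt.Cat X') (ρ' : G →* Aut P'), SGA1t.IsPrincipal G P' ρ' → Comes i G P' ρ') :
    Comes k G P'' ρ'' := by
  obtain ⟨P', ρ', hP', e', he'⟩ := hj
  obtain ⟨P, ρ, hP, e, he⟩ := hi P' ρ' hP'
  let η := natIso j i k w
  refine ⟨P, ρ, hP, (η.app P).symm ≪≫ (FEt.restrict j).mapIso e ≪≫ e', fun x => ?_⟩
  have h1 := η.inv.naturality (ρ x).hom
  rw [Functor.comp_map] at h1
  have h2 : (FEt.restrict j).map ((FEt.restrict i).map (ρ x).hom) ≫ (FEt.restrict j).map e.hom =
      (FEt.restrict j).map e.hom ≫ (FEt.restrict j).map (ρ' x).hom := by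
    rw [← Functor.map_comp, he, Functor.map_comp]
  simp only [Iso.trans_hom, Iso.symm_hom, Iso.app_inv, Functor.mapIso_hom, Category.assoc]
  rw [← Category.assoc ((FEt.restrict k).map (ρ x).hom), h1, Category.assoc,
    ← Category.assoc ((FEt.restrict j).map ((FEt.restrict i).map (ρ x).hom)), h2, Category.assoc, he']

/-- Every principal cover comes along an isomorphism. -/
theorem comes_of_isIso {X' X : Scheme.{u}} (i : X' ⟶ X) [IsIso i] {G : Type} [Group G] (P' : FEt.Cat X')
    (ρ' : G →* Aut P') (hP' : SGA1t.IsPrincipal G P' ρ') : Comes i G P' ρ' := by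
  let η := natIso i (inv i) (𝟙 X') (IsIso.hom_inv_id i)
  refine ⟨(FEt.restrict (inv i)).obj P', bcAction (inv i) ρ', isPrincipal_bc _ _ _ _ hP',
    η.app P' ≪≫ (restrictId X').app P', fun x => ?_⟩
  have h1 := η.hom.naturality (ρ' x).hom
  rw [Functor.comp_map] at h1
  have h2 := (restrictId X').hom.naturality (ρ' x).hom
  rw [bcAction_hom, Iso.trans_hom, Iso.app_hom, Iso.app_hom, ← Category.assoc, h1, Category.assoc, h2, Category.assoc]
  rfl

/-- The theorem for morphisms of finite type. -/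
theorem comes_stage (H : H17216.{u}) {k A : Type u} [Field k] [CommRing A] (α : k →+* A) (hα : α.FiniteType)
    {X Y Y' : Scheme.{u}} (f : X ⟶ Y) [QuasiCompact f] [QuasiSeparated f] (b : Y ⟶ Spec (CommRingCat.of k))
    (c : Y' ⟶ Y) (b' : Y' ⟶ Spec (CommRingCat.of A)) (h : IsPullback c b' b (spm α))
    {G : Type} [Group G] [Finite G] (hG : IsUnit ((Nat.card G : ℕ) : k))
    {D D' : Type u} [CommRing D] [IsLocalRing D] [CommRing D'] [IsLocalRing D']
    {σ : Spec (CommRingCat.of D) ⟶ Y} (hσ : IsStrictLoc σ) {σ' : Spec (CommRingCat.of D') ⟶ Y'}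
    (hσ' : IsStrictLoc σ') (φ : D →+* D') [IsLocalHom φ] (hc : spm φ ≫ σ = σ' ≫ c)
    {XD XD' : Scheme.{u}} {x : XD ⟶ X} {fD : XD ⟶ Spec (CommRingCat.of D)} (hx : IsPullback x fD f σ)
    {j : XD' ⟶ XD} {fD' : XD' ⟶ Spec (CommRingCat.of D')} (hj : IsPullback j fD' fD (spm φ))
    (P' : FEt.Cat XD') (ρ' : G →* Aut P') (hP' : SGA1t.IsPrincipal G P' ρ') : Comes j G P' ρ' := by
  have hft : LocallyOfFiniteType (spm α) := (HasRingHomProperty.Spec_iff (P := @LocallyOfFiniteType)).2 hα
  obtain ⟨U, hU, HU⟩ := H (spm α)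
  have hU' : ∀ y : ↥(Spec (CommRingCat.of k)), y ∈ U := by
    intro y
    obtain ⟨z, hz⟩ := hU.nonempty
    have : y = z := Subsingleton.elim (α := PrimeSpectrum k) y z
    rw [this]
    exact hz
  obtain ⟨z', hz'⟩ : ∃ z', σ' (closedPoint D') = z' := ⟨_, rfl⟩
  have hz : σ (closedPoint D) = c.base z' := by
    rw [← closedPoint_map φ, ← Scheme.Hom.comp_apply, hc, Scheme.Hom.comp_apply, hz']
  obtain ⟨_, _, _, rfl⟩ := exists_specOf hσ (c.base z') hz
  obtain ⟨_, _, _, rfl⟩ := exists_specOf hσ' z' hz'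
  let _ : Algebra D D' := φ.toAlgebra
  have hGu : ∀ y : Y, IsUnit ((Nat.card G : ℕ) : Y.residueField y) := by
    intro y
    let t : k →+* Y.residueField y := (Spec.preimage (Y.fromSpecResidueField y ≫ b)).hom
    have := hG.map t
    rwa [map_natCast] at this
  have key := HU b (fun y _ => hU' y) G hGu f c b' h z' D D'
    ((Groth.Agent.Etrest.VCBaseChange.specOf_comm c z' D D' φ).2 hc)
  -- transport
  have hx' : IsPullback (pullback.fst f (Hens2.specOf Y (c.base z') D)) (pullback.snd f (Hens2.specOf Y (c.base z') D))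
    f (Hens2.specOf Y (c.base z') D) := IsPullback.of_hasPullback _ _
  let v : XD ≅ pullback f (Hens2.specOf Y (c.base z') D) := hx.isoPullback
  have hv2 : v.hom ≫ pullback.snd f (Hens2.specOf Y (c.base z') D) = fD := hx.isoPullback_hom_snd
  have hjv : IsPullback (j ≫ v.hom) fD' (pullback.snd f (Hens2.specOf Y (c.base z') D)) (spm φ) := by
    refine IsPullback.of_iso hj (Iso.refl _) v (Iso.refl _) (Iso.refl _) (by simp) (by simp) ?_ (by simp)
    rw [Iso.refl_hom, Category.comp_id, hv2]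
  let w : XD' ≅ pullback (pullback.snd f (Hens2.specOf Y (c.base z') D)) (spm φ) := hjv.isoPullback
  have hw1 : w.hom ≫ pullback.fst (pullback.snd f (Hens2.specOf Y (c.base z') D)) (spm φ) = j ≫ v.hom :=
    hjv.isoPullback_hom_fst
  refine comes_comp (w.hom ≫ pullback.fst (pullback.snd f (Hens2.specOf Y (c.base z') D)) (spm φ)) v.inv j ?_
    (comes_comp w.hom (pullback.fst (pullback.snd f (Hens2.specOf Y (c.base z') D)) (spm φ)) _ rfl
      (comes_of_isIso w.hom P' ρ' hP') key) (fun P₁ ρ₁ hP₁ => comes_of_isIso v.inv P₁ ρ₁ hP₁)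
  rw [hw1, Category.assoc, Iso.hom_inv_id, Category.comp_id]

end EtAcyc.K202.Fes
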