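import Groth.Agent.EtAcyc.K202.FesComes
import Groth.Agent.Sga4h.SLocLim817
import Groth.Agent.Etcore.PullbackLim
import Groth.Agent.Etcore.FGLim

/-!
# Principal covers over strict localizations: extensions of fields

`fes`: the statement `K868.Bc.FEs n f b` (every principal cover over a strict localization of `Y ×_k k'` comes from a
strict localization of `Y`), from the statement of S17216: the extension is the union of its finitely generated
subalgebras.
-/

set_option autoImplicit false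
universe u

open CategoryTheory CategoryTheory.Limits AlgebraicGeometry IsLocalRing Opposite

namespace EtAcyc.K202.Fes

open Groth.Agent.Etrest.StrictLoc Groth.Agent.Pi1A.FEtAffine Groth.Agent.Pi1.H383.PrincBC
  K868.Bc Groth.Agent.Sga1.UlaSL Groth.Agent.Etcore Groth.Agent.Etcore.FGLim Groth.Agent.Sga4h.SLocLim817

section Sys

variable (k k' : Type u) [Field k] [Field k'] [Algebra k k']

/-- the structure maps -/
noncomputable def st (a : (FGSub k k')ᵒᵖ) :
    (PullbackLim.specSys (fgSys k k')).obj a ⟶ Spec (CommRingCat.of k) :=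
  spm (algebraMap k a.unop.1)

theorem hst ⦃a b : (FGSub k k')ᵒᵖ⦄ (h : a ⟶ b) :
    (PullbackLim.specSys (fgSys k k')).map h ≫ st k k' b = st k k' a := by
  change spm (Subalgebra.inclusion h.unop.le).toRingHom ≫ spm (algebraMap k b.unop.1) = spm (algebraMap k a.unop.1)
  rw [← spm_comp]
  rfl

theorem hst' (a : (FGSub k k')ᵒᵖ) :
    (PullbackLim.specCone (fgSys k k') (fgCocone k k')).π.app a ≫ st k k' a = spm (algebraMap k k') := by
  change spm a.unop.1.val.toRingHom ≫ spm (algebraMap k a.unop.1) = spm (algebraMap k k')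
  rw [← spm_comp]
  rfl

variable {Y : Scheme.{u}} (b : Y ⟶ Spec (CommRingCat.of k))

/-- the system of the `Y ×_k Spec B` -/
noncomputable abbrev YF : (FGSub k k')ᵒᵖ ⥤ Scheme.{u} :=
  PullbackLim.sys (PullbackLim.specSys (fgSys k k')) (st k k') (hst k k') b

/-- the cone -/
noncomputable abbrev YC : Cone (YF k k' b) :=
  PullbackLim.cone (PullbackLim.specSys (fgSys k k')) (st k k') (hst k k') b
    (PullbackLim.specCone (fgSys k k') (fgCocone k k')) (spm (algebraMap k k')) (hst' k k')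

/-- the limit -/
noncomputable def isLimitYC : IsLimit (YC k k' b) :=
  PullbackLim.isLimitCone _ _ _ _ _ _ _ (PullbackLim.isLimitSpecCone _ _ (isColimitFG k k'))

/-- transition maps -/
noncomputable def MF {F F' : FGSub k k'} (h : F ⟶ F') :
    pullback b (spm (algebraMap k F'.1)) ⟶ pullback b (spm (algebraMap k F.1)) :=
  PullbackLim.mapp (PullbackLim.specSys (fgSys k k')) (st k k') (hst k k') b h.op

theorem MF_fst {F F' : FGSub k k'} (h : F ⟶ F') : MF k k' b h ≫ pullback.fst b (spm (algebraMap k F.1)) =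
    pullback.fst b (spm (algebraMap k F'.1)) :=
  PullbackLim.mapp_fst (PullbackLim.specSys (fgSys k k')) (st k k') (hst k k') b h.op

/-- projections -/
noncomputable def PF (F : FGSub k k') : pullback b (spm (algebraMap k k')) ⟶ pullback b (spm (algebraMap k F.1)) :=
  PullbackLim.proj (PullbackLim.specSys (fgSys k k')) (st k k') b
    (PullbackLim.specCone (fgSys k k') (fgCocone k k')) (spm (algebraMap k k')) (hst' k k') (op F)

theorem PF_fst (F : FGSub k k') : PF k k' b F ≫ pullback.fst b (spm (algebraMap k F.1)) =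
    pullback.fst b (spm (algebraMap k k')) :=
  PullbackLim.proj_fst (PullbackLim.specSys (fgSys k k')) (st k k') b
    (PullbackLim.specCone (fgSys k k') (fgCocone k k')) (spm (algebraMap k k')) (hst' k k') (op F)

variable {k k' b} {D' : Type u} [CommRing D'] [IsLocalRing D'] {σ' : Spec (CommRingCat.of D') ⟶ (YC k k' b).pt}

/-- the structure map of a stage -/
noncomputable def sp {F : FGSub k k'} (s : Stage (YF k k' b) (YC k k' b) σ' F) :
    Spec (CommRingCat.of s.R) ⟶ pullback b (spm (algebraMap k F.1)) := s.p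

theorem tr_sp (hσ : IsStrictLoc σ') (s : ∀ F, Stage (YF k k' b) (YC k k' b) σ' F) {F F' : FGSub k k'}
    (h : F ⟶ F') : spm (tr _ _ hσ s h) ≫ sp (s F) = sp (s F') ≫ MF k k' b h := tr_spm _ _ hσ s h

omit [IsLocalRing D'] in
theorem g_sp {F : FGSub k k'} (s : Stage (YF k k' b) (YC k k' b) σ' F)
    (σ₁ : Spec (CommRingCat.of D') ⟶ pullback b (spm (algebraMap k k'))) (hσσ : σ₁ = σ') :
    spm s.g ≫ sp s = σ₁ ≫ PF k k' b F := by
  subst hσσ
  exact s.hg

end Sys

section Main

variable {k k' : Type u} [Field k] [Field k'] [Algebra k k'] {X Y : Scheme.{u}}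
  {f : X ⟶ Y} {b : Y ⟶ Spec (CommRingCat.of k)}
  {D D' : Type u} [CommRing D] [IsLocalRing D] [CommRing D'] [IsLocalRing D']
  {σ : Spec (CommRingCat.of D) ⟶ Y} {σ' : Spec (CommRingCat.of D') ⟶ pullback b (spm (algebraMap k k'))}

/-- the maps `D ⟶ R_F`. -/
theorem exists_beta (hσ : IsStrictLoc σ) (hσ' : IsStrictLoc σ') (φ : D →+* D') [IsLocalHom φ]
    (hc : spm φ ≫ σ = σ' ≫ pullback.fst b (spm (algebraMap k k')))
    (s : ∀ F, Stage (YF k k' b) (YC k k' b) σ' F) (F : FGSub k k') :
    ∃ β : D →+* (s F).R, IsLocalHom β ∧ spm β ≫ σ = sp (s F) ≫ pullback.fst b (spm (algebraMap k F.1)) ∧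
      (s F).g.comp β = φ := by
  have := hσ'.henselian
  have := (s F).hp.henselian
  have := (s F).hp.sepClosed
  refine Groth.Agent.Etrest.VCBaseChange.exists_map_over hσ
    (sp (s F) ≫ pullback.fst b (spm (algebraMap k F.1))) (s F).g φ ?_
  rw [hc, ← Category.assoc, g_sp (s F) σ' rfl, Category.assoc, PF_fst]

theorem main (H : H17216.{u}) [QuasiCompact f] [QuasiSeparated f] {G : Type} [Group G] [Finite G]
    (hG : IsUnit ((Nat.card G : ℕ) : k)) (hσ : IsStrictLoc σ) (hσ' : IsStrictLoc σ') (φ : D →+* D') [IsLocalHom φ]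
    (hc : spm φ ≫ σ = σ' ≫ pullback.fst b (spm (algebraMap k k')))
    {XD : Scheme.{u}} {x : XD ⟶ X} {fD : XD ⟶ Spec (CommRingCat.of D)} (hx : IsPullback x fD f σ)
    (P' : FEt.Cat (pullback fD (spm φ))) (ρ' : G →* Aut P') (hP' : SGA1t.IsPrincipal G P' ρ') :
    Comes (pullback.fst fD (spm φ)) G P' ρ' := by
  have hσ'' : IsStrictLoc (X := (YC k k' b).pt) σ' := hσ'
  let s : ∀ F, Stage (YF k k' b) (YC k k' b) σ' F := fun F => Classical.choice (exists_stage _ _ hσ'' F)
  obtain ⟨hR⟩ := isColimit_system (D := YF k k' b) (isLimitYC k k' b) hσ'' s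
  choose β hβl hβ hβφ using exists_beta hσ hσ' φ hc s
  have htr : ∀ {F F' : FGSub k k'} (h : F ⟶ F'), (tr _ _ hσ'' s h).comp (β F) = β F' := by
    intro F F' h
    have i1 := tr_isLocalHom _ _ hσ'' s h
    have i2 := hβl F
    have i3 := hβl F'
    have i4 := (s F').hp.henselian
    refine hom_unique hσ (s F').g _ _ ?_ ?_
    · rw [spm_comp, Category.assoc, hβ, ← Category.assoc, tr_sp, Category.assoc, MF_fst, hβ]
    · rw [← RingHom.comp_assoc, tr_g, hβφ, hβφ]
  let T := PullbackLim.specSys (system _ _ hσ'' s)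
  let τ : ∀ a : (FGSub k k')ᵒᵖ, T.obj a ⟶ Spec (CommRingCat.of D) := fun a => spm (β a.unop)
  have hτ : ∀ ⦃a b : (FGSub k k')ᵒᵖ⦄ (h : a ⟶ b), T.map h ≫ τ b = τ a := by
    intro a b h
    change spm (tr _ _ hσ'' s h.unop) ≫ spm (β b.unop) = spm (β a.unop)
    rw [← spm_comp, htr]
  let cT := PullbackLim.specCone _ (systemCocone _ _ hσ'' s)
  have ht : ∀ a, cT.π.app a ≫ τ a = spm φ := by
    intro a
    change spm (s a.unop).g ≫ spm (β a.unop) = spm φ
    rw [← spm_comp, hβφ]
  have hlim := PullbackLim.isLimitCone T τ hτ fD cT (spm φ) ht (PullbackLim.isLimitSpecCone _ _ hR)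
  have i1 : QuasiCompact fD := MorphismProperty.of_isPullback (P := @QuasiCompact) hx inferInstance
  have i2 : QuasiSeparated fD := MorphismProperty.of_isPullback (P := @QuasiSeparated) hx inferInstance
  have i3 : ∀ (i j : (FGSub k k')ᵒᵖ) (h : i ⟶ j), IsAffineHom ((PullbackLim.sys T τ hτ fD).map h) := fun i j h =>
    PullbackLim.isAffineHom_mapp T τ hτ fD (fun _ _ _ => inferInstance) h
  have i4 : ∀ i : (FGSub k k')ᵒᵖ, CompactSpace ((PullbackLim.sys T τ hτ fD).obj i) := fun i =>
    PullbackLim.compactSpace_obj T τ hτ fD i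
  have i5 : ∀ i : (FGSub k k')ᵒᵖ, QuasiSeparatedSpace ((PullbackLim.sys T τ hτ fD).obj i) := fun i =>
    PullbackLim.quasiSeparatedSpace_obj T τ hτ fD i
  obtain ⟨a, W, ρ, e, hW, he⟩ := K548.SpreadPrin.exists_principal hlim G P' ρ' hP'
  refine comes_comp (PullbackLim.proj T τ fD cT (spm φ) ht a) (pullback.fst fD (spm (β a.unop)))
    (pullback.fst fD (spm φ)) (PullbackLim.proj_fst T τ fD cT (spm φ) ht a) ⟨W, ρ, hW, e, he⟩ fun P₁ ρ₁ hP₁ => ?_
  have i6 := hβl a.unop
  have hft : Algebra.FiniteType k a.unop.1 := (Subalgebra.fg_iff_finiteType _).1 a.unop.2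
  exact comes_stage H (algebraMap k a.unop.1) (RingHom.finiteType_algebraMap.2 hft) f b
    (pullback.fst b (spm (algebraMap k a.unop.1))) (pullback.snd b (spm (algebraMap k a.unop.1)))
    (IsPullback.of_hasPullback _ _) hG hσ (σ' := sp (s a.unop)) (s a.unop).hp (β a.unop) (hβ a.unop) hx
    (IsPullback.of_hasPullback fD (spm (β a.unop))) P₁ ρ₁ hP₁

end Main

/-- **Essential surjectivity along arbitrary extensions of fields.** -/
theorem fes' (H : H17216.{u}) (n : ℕ) {X Y : Scheme.{u}} {k : Type u} [Field k] (f : X ⟶ Y) [QuasiCompact f]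
    [QuasiSeparated f] (b : Y ⟶ Spec (CommRingCat.of k)) : FEs n f b := by
  intro k' D D' _ _ _ _ _ _ hn κ σ hσ Y' c b' hY' σ' hσ' φ hφ hc XD XD' x fD hx j fD' hj G _ _ hG P' ρ' hP'
  let _ : Algebra k k' := κ.toAlgebra
  have hGk : IsUnit ((Nat.card G : ℕ) : k) := by
    obtain ⟨m, rfl⟩ := hG
    rw [Nat.cast_mul] at hn
    exact isUnit_of_mul_isUnit_left hn
  let u : Y' ≅ pullback b (spm (algebraMap k k')) := hY'.isoPullback
  have hu : u.hom ≫ pullback.fst b (spm (algebraMap k k')) = c := hY'.isoPullback_hom_fst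
  have hσ'' : IsStrictLoc (σ' ≫ u.hom) := hσ'.comp u.hom
  let w : XD' ≅ pullback fD (spm φ) := hj.isoPullback
  have hw : w.hom ≫ pullback.fst fD (spm φ) = j := hj.isoPullback_hom_fst
  exact comes_comp w.hom (pullback.fst fD (spm φ)) j hw (comes_of_isIso w.hom P' ρ' hP') fun P₁ ρ₁ hP₁ =>
    main H hGk hσ hσ'' φ (by rw [Category.assoc, hu, hc]) hx P₁ ρ₁ hP₁

/-- **Essential surjectivity along extensions of separably closed fields.** -/
theorem fes (H : H17216.{u}) (n : ℕ) {X Y : Scheme.{u}} {k : Type u} [Field k] [IsSepClosed k] (f : X ⟶ Y)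
    [QuasiCompact f] [QuasiSeparated f] (b : Y ⟶ Spec (CommRingCat.of k)) : FEs n f b := fes' H n f b

end EtAcyc.K202.Fes
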