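import Groth.Agent.EtAcyc.K548.Radicial
import Groth.Agent.VarietyA.GeomRedAlg
import Groth.Agent.MultTori.K327.GenInsep

/-!
# Field extensions are good

Every extension of fields is universally locally `0`-acyclic, in the strong form `K548.Good.IsGood`: over a perfect
field a reduced algebra has a Noetherian local model; the general case follows by passing to the perfect closures.
-/

set_option autoImplicit false
universe u

open CategoryTheory CategoryTheory.Limits AlgebraicGeometry TensorProduct

namespace EtAcyc.K202.FieldGood

open Groth.Agent.Etrest.StrictLoc Groth.Agent.Etbc.H192 K548.Good K548.Radicial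

/-- A reduced algebra over a perfect field is good. -/
theorem isGood_of_perfect {k C : Type u} [Field k] [PerfectField k] [CommRing C] [IsReduced C] (i : k →+* C) :
    IsGood (spm i) := by
  algebraize [i]
  refine good_of_hasModel _ fun x₀ => ⟨_, _, 𝟙 _, inferInstance, 𝟙 _, inferInstance, spm i, by simp,
    ⟨x₀, rfl⟩, k, C, inferInstance, inferInstance, inferInstance, inferInstance, inferInstance, ?_, 𝟙 _, 𝟙 _, ?_⟩
  · intro κ _ _
    have h1 : Algebra.IsGeometricallyReduced k C := Groth.Agent.VarietyA.GeomRedAlg.isGeometricallyReduced_of_perfectField
    have h2 : IsReduced (κ ⊗[k] C) := Groth.Agent.VarietyA.GeomRedAlg.isReduced_tensorProduct_field κ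
    exact isReduced_of_injective (Algebra.TensorProduct.comm k C κ).toAlgHom
      (Algebra.TensorProduct.comm k C κ).injective
  · exact IsPullback.of_horiz_isIso ⟨by simp [RingHom.algebraMap_toAlgebra]⟩

theorem isIntegralHom_spm {k k' : Type u} [Field k] [Field k'] [Algebra k k'] [Algebra.IsAlgebraic k k'] :
    IsIntegralHom (spm (algebraMap k k')) := by
  rw [IsIntegralHom.SpecMap_iff]
  exact algebraMap_isIntegral_iff.2 inferInstance

theorem surjective_spm {k k' : Type u} [Field k] [Field k'] (i : k →+* k') : Surjective (spm i) :=
  ⟨fun _ => ⟨(default : PrimeSpectrum k'), Subsingleton.elim _ _⟩⟩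

/-- **Extensions of fields are good.** -/
theorem isGood_spm {k k' : Type u} [Field k] [Field k'] (i : k →+* k') : IsGood (spm i) := by
  algebraize [i]
  let E := AlgebraicClosure k'
  let P := perfectClosure k E
  let P' := perfectClosure k' E
  have hle : ∀ x : P, (x : E) ∈ P' := by
    intro x
    obtain ⟨n, y, hy⟩ := mem_perfectClosure_iff.1 x.2
    have := expChar_of_injective_algebraMap (algebraMap k k').injective (ringExpChar k)
    have hq : ringExpChar k = ringExpChar k' := (ringExpChar.eq k' (ringExpChar k)).symm
    refine mem_perfectClosure_iff.2 ⟨n, algebraMap k k' y, ?_⟩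
    rw [← hq, ← hy]
    rfl
  let j : P →+* P' :=
    { toFun := fun x => ⟨x, hle x⟩
      map_one' := rfl
      map_mul' := fun _ _ => rfl
      map_zero' := rfl
      map_add' := fun _ _ => rfl }
  have hj : j.comp (algebraMap k P) = (algebraMap k' P').comp i := by
    ext x
    rfl
  have hg : IsGood (spm j) := isGood_of_perfect j
  have h1 : IsIntegralHom (spm (algebraMap k P)) := isIntegralHom_spm
  have h2 : IsIntegralHom (spm (algebraMap k' P')) := isIntegralHom_spm
  have h3 := surjective_spm (algebraMap k P)
  have h4 := surjective_spm (algebraMap k' P')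
  have h5 : UniversallyInjective (spm (algebraMap k P)) := K327.GenInsep.universallyInjective_specMap k P
  have h6 : UniversallyInjective (spm (algebraMap k' P')) := K327.GenInsep.universallyInjective_specMap k' P'
  refine isGood_of_square (f' := spm j) (r := spm (algebraMap k' P')) (π := spm (algebraMap k P)) ?_ hg
  rw [← spm_comp, ← spm_comp, hj]

/-- Extensions of separably closed fields are good (special case of `isGood_spm`). -/
theorem isGood_spm_field {k k' : Type u} [Field k] [Field k'] [IsSepClosed k] [IsSepClosed k'] (i : k →+* k') :
    IsGood (spm i) := isGood_spm i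

end EtAcyc.K202.FieldGood
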